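import Cfsg.Agent.Lib.Sp63.Data
import Cfsg.Agent.Lib.Symplectic.Std

/-! Centralisers of elements of order 7 and 13 in `Sp₆(3)`. -/

set_option autoImplicit false

namespace Cfsg.Agent.Lib.Sp63

open Matrix

abbrev Ix : Type := Fin 3 ⊕ Fin 3
abbrev F3 : Type := ZMod 3
abbrev Mat : Type := Matrix Ix Ix F3
abbrev Sp : Type := ↥(Matrix.symplecticGroup (Fin 3) F3)

instance f3Fact : Fact (Nat.Prime 3) := ⟨by norm_num⟩
instance f3Fact7 : Fact (Nat.Prime 7) := ⟨by norm_num⟩
instance f3Fact13 : Fact (Nat.Prime 13) := ⟨by norm_num⟩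

def pos (i : Ix) : Nat := Sum.elim (fun a => a.val) (fun a => 3 + a.val) i

def matOf (L : List (List Nat)) : Mat := Matrix.of fun i j => (((L.getD (pos i) []).getD (pos j) 0 : Nat) : F3)

def kiOf (L : List (List Nat)) : Matrix (Fin 6) Ix F3 :=
  Matrix.of fun i j => (((L.getD i.val []).getD (pos j) 0 : Nat) : F3)

/-- data of an element with a cyclic vector: `tab` lists the images of the vector under the powers -/
structure Cyc where
  g : Mat
  ki : Matrix (Fin 6) Ix F3
  tab : List (List Nat)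
  ord : Nat
  ord_pos : 0 < ord
  mem : g ∈ Matrix.symplecticGroup (Fin 3) F3
  pow_ord : g ^ ord = 1
  tab_step : ∀ k : Fin ord, g *ᵥ (fun r => (((tab.getD k.val []).getD (pos r) 0 : Nat) : F3)) =
    fun r => (((tab.getD ((k.val + 1) % ord) []).getD (pos r) 0 : Nat) : F3)
  inverse : (Matrix.of fun r (i : Fin 6) => (((tab.getD i.val []).getD (pos r) 0 : Nat) : F3)) * ki = 1
  six_le : 6 ≤ ord

variable (C : Cyc)

def Cyc.el : Sp := ⟨C.g, C.mem⟩

/-- the images of the cyclic vector -/
def Cyc.vec (k : Nat) : Ix → F3 :=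
  fun r => (((C.tab.getD (k % C.ord) []).getD (pos r) 0 : Nat) : F3)

theorem Cyc.step (k : Nat) : C.g *ᵥ C.vec k = C.vec (k + 1) := by
  have h := C.tab_step ⟨k % C.ord, Nat.mod_lt _ C.ord_pos⟩
  simp only [Nat.mod_add_mod] at h
  exact h

theorem Cyc.pow_vec (i k : Nat) : (C.g ^ i) *ᵥ C.vec k = C.vec (i + k) := by
  induction i with
  | zero => simp
  | succ i ih => rw [pow_succ', ← Matrix.mulVec_mulVec, ih, C.step, Nat.succ_add]

/-- a polynomial in the element -/
def Cyc.poly (c : Fin 6 → F3) : Mat := ∑ i : Fin 6, c i • C.g ^ i.val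

theorem Cyc.commute_poly (c : Fin 6 → F3) : Commute C.g (C.poly c) := by
  refine Commute.sum_right _ _ _ fun i _ => ?_
  exact (Commute.pow_right (Commute.refl _) _).smul_right _

theorem Cyc.eq_of_vec {A B : Mat} (hA : Commute C.g A) (hB : Commute C.g B)
    (h : A *ᵥ C.vec 0 = B *ᵥ C.vec 0) : A = B := by
  set K : Matrix Ix (Fin 6) F3 :=
    Matrix.of fun r (i : Fin 6) => (((C.tab.getD i.val []).getD (pos r) 0 : Nat) : F3)
  have hk : A * K = B * K := by
    ext r i
    have hcol : ∀ M : Mat, (M * K) r i = (M *ᵥ C.vec i.val) r := by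
      intro M
      simp only [Matrix.mul_apply, Matrix.mulVec, dotProduct, K, Matrix.of_apply, Cyc.vec]
      rw [Nat.mod_eq_of_lt (lt_of_lt_of_le i.2 C.six_le)]
    rw [hcol, hcol]
    have e : ∀ M : Mat, Commute C.g M → M *ᵥ C.vec i.val = (C.g ^ i.val) *ᵥ (M *ᵥ C.vec 0) := by
      intro M hM
      rw [Matrix.mulVec_mulVec, (hM.pow_left i.val).eq, ← Matrix.mulVec_mulVec, C.pow_vec, add_zero]
    rw [e A hA, e B hB, h]
  calc A = A * (K * C.ki) := by rw [C.inverse, mul_one]
    _ = B * (K * C.ki) := by rw [← Matrix.mul_assoc, hk, Matrix.mul_assoc]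
    _ = B := by rw [C.inverse, mul_one]

theorem Cyc.exists_poly {y : Mat} (hy : Commute C.g y) : ∃ c, y = C.poly c := by
  refine ⟨C.ki *ᵥ (y *ᵥ C.vec 0), C.eq_of_vec hy (C.commute_poly _) ?_⟩
  set c := C.ki *ᵥ (y *ᵥ C.vec 0) with hc
  have h : C.poly c *ᵥ C.vec 0 =
      (Matrix.of fun r (i : Fin 6) => (((C.tab.getD i.val []).getD (pos r) 0 : Nat) : F3)) *ᵥ c := by
    funext r
    rw [Cyc.poly, Matrix.sum_mulVec]
    simp only [Matrix.smul_mulVec, C.pow_vec, add_zero, Finset.sum_apply, Pi.smul_apply, smul_eq_mul]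
    simp only [Matrix.mulVec, dotProduct, Matrix.of_apply, Cyc.vec]
    refine Finset.sum_congr rfl fun i _ => ?_
    rw [Nat.mod_eq_of_lt (lt_of_lt_of_le i.2 C.six_le), mul_comm]
  rw [h, hc, Matrix.mulVec_mulVec, C.inverse, Matrix.one_mulVec]

/-- Frobenius: `p(g)^27 = p(g^27)` -/
theorem Cyc.poly_pow (c : Fin 6 → F3) :
    C.poly c ^ 27 = ∑ i : Fin 6, c i • (C.g ^ 27) ^ i.val := by
  open Polynomial in
  have h : ∀ p : F3[X], (aeval C.g p) ^ 27 = aeval (C.g ^ 27) p := by
    intro p
    have e : expand F3 27 p = p ^ 27 := by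
      rw [show (27 : ℕ) = 3 * 3 * 3 by norm_num, ← expand_expand, ← expand_expand]
      simp only [ZMod.expand_card, ← pow_mul]
    rw [← map_pow, ← e, expand_aeval]
  have e : ∀ B : Mat, ∑ i : Fin 6, c i • B ^ i.val =
      Polynomial.aeval B (∑ i : Fin 6, Polynomial.C (c i) * Polynomial.X ^ i.val) := by
    intro B
    simp [Algebra.smul_def]
  rw [Cyc.poly, e, h, ← e]

theorem Cyc.pow_mod (i : Nat) : C.g ^ i = C.g ^ (i % C.ord) := pow_eq_pow_mod _ C.pow_ord

theorem neg_J_transpose_pow {A : Mat} (hA : A ∈ Matrix.symplecticGroup (Fin 3) F3) :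
    ((⟨A, hA⟩ : Sp)⁻¹ : Sp).1 = -(Matrix.J (Fin 3) F3 * A.transpose * Matrix.J (Fin 3) F3) := by
  rw [SymplecticGroup.coe_inv]
  simp [Matrix.neg_mul]

/-- the inverse of a symplectic element commuting with `g` -/
theorem Cyc.inv_poly {y : Sp} {c : Fin 6 → F3} (hy : y.1 = C.poly c) :
    (y⁻¹ : Sp).1 = ∑ i : Fin 6, c i • C.g ^ (C.ord * 6 - i.val) := by
  have hinv : ∀ i : ℕ, i ≤ C.ord * 6 →
      -(Matrix.J (Fin 3) F3 * (C.g ^ i).transpose * Matrix.J (Fin 3) F3) = C.g ^ (C.ord * 6 - i) := by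
    intro i hi
    have hm : C.g ^ i ∈ Matrix.symplecticGroup (Fin 3) F3 := pow_mem C.mem i
    rw [← neg_J_transpose_pow hm]
    have : ((⟨C.g ^ i, hm⟩ : Sp))⁻¹ = ⟨C.g ^ (C.ord * 6 - i), pow_mem C.mem _⟩ := by
      apply inv_eq_of_mul_eq_one_right
      apply Subtype.ext
      show C.g ^ i * C.g ^ (C.ord * 6 - i) = 1
      rw [← pow_add, Nat.add_sub_cancel' hi, pow_mul, C.pow_ord, one_pow]
    rw [this]
  rw [show y = ⟨C.poly c, hy ▸ y.2⟩ from Subtype.ext hy, neg_J_transpose_pow, Cyc.poly]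
  simp only [Matrix.transpose_sum, Matrix.transpose_smul, Matrix.mul_sum, Matrix.sum_mul,
    Matrix.mul_smul, Matrix.smul_mul, ← Finset.sum_neg_distrib, ← smul_neg]
  refine Finset.sum_congr rfl fun i _ => ?_
  rw [hinv i.val (by have := i.2; have := C.six_le; omega)]

def digit (n i : Nat) : Nat := n / 3 ^ i % 3

def sum6 (f : Nat → Nat) : Nat := f 0 + f 1 + f 2 + f 3 + f 4 + f 5

/-- the only candidates for involutions in the centraliser are `±1` -/
def invCheck (T : List (List Nat)) (o : Nat) : Bool :=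
  (List.range 729).all fun n => (List.range 6).any (fun r =>
      decide (sum6 (fun i => sum6 fun j => digit n i * digit n j * ((T.getD ((i + j) % o) []).getD r 0)) % 3 ≠
        (T.getD 0 []).getD r 0 % 3) ||
      decide (sum6 (fun i => digit n i * ((T.getD ((o * 6 - i) % o) []).getD r 0)) % 3 ≠
        sum6 (fun i => digit n i * ((T.getD (i % o) []).getD r 0)) % 3)) ||
    decide (n = 1 ∨ n = 2)

def code (c : Fin 6 → F3) : Nat :=
  (c 0).val + 3 * ((c 1).val + 3 * ((c 2).val + 3 * ((c 3).val + 3 * ((c 4).val + 3 * (c 5).val))))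

theorem digit_code (c : Fin 6 → F3) (i : Fin 6) : digit (code c) i.val = (c i).val := by
  have h : ∀ j, (c j).val < 3 := fun j => ZMod.val_lt _
  have h0 := h 0
  have h1 := h 1
  have h2 := h 2
  have h3 := h 3
  have h4 := h 4
  have h5 := h 5
  unfold digit code
  fin_cases i <;> simp <;> omega

theorem code_lt (c : Fin 6 → F3) : code c < 729 := by
  have h : ∀ j, (c j).val < 3 := fun j => ZMod.val_lt _
  have h0 := h 0
  have h1 := h 1
  have h2 := h 2
  have h3 := h 3
  have h4 := h 4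
  have h5 := h 5
  unfold code
  omega

theorem sum6_fin (f : Nat → Nat) : sum6 f = ∑ i : Fin 6, f i.val := by
  simp [sum6, Fin.sum_univ_six]

def posInv (r : Fin 6) : Ix :=
  if h : r.val < 3 then Sum.inl ⟨r.val, h⟩ else Sum.inr ⟨r.val - 3, by have := r.2; omega⟩

theorem pos_posInv (r : Fin 6) : pos (posInv r) = r.val := by fin_cases r <;> rfl

theorem Cyc.involution (hchk : invCheck C.tab C.ord = true) {z : Sp} (hz : z * z = 1)
    (hc : Commute C.el z) : z.1 = 1 ∨ z.1 = -1 := by
  obtain ⟨c, hcz⟩ := C.exists_poly (y := z.1) (congrArg Subtype.val hc.eq)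
  have h1 : (z.1 * z.1) *ᵥ C.vec 0 = C.vec 0 := by
    rw [show z.1 * z.1 = (z * z).1 from rfl, hz]; simp
  have h2 : (z⁻¹ : Sp).1 *ᵥ C.vec 0 = z.1 *ᵥ C.vec 0 := by
    rw [inv_eq_of_mul_eq_one_right hz]
  rw [C.inv_poly hcz, hcz] at h2
  rw [hcz] at h1
  have hb := List.all_eq_true.1 hchk (code c) (List.mem_range.2 (code_lt c))
  simp only [Bool.or_eq_true, List.any_eq_true, List.mem_range, decide_eq_true_eq] at hb
  rcases hb with ⟨r, hr, hne⟩ | hb
  · exfalso
    have hd : ∀ i : Fin 6, ((digit (code c) i.val : ℕ) : F3) = c i := fun i => by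
      rw [digit_code, ZMod.natCast_zmod_val]
    rcases hne with hne | hne
    · apply hne
      apply (ZMod.natCast_eq_natCast_iff' _ _ 3).1
      have h := congrFun h1 (posInv ⟨r, hr⟩)
      simp only [← Matrix.mulVec_mulVec, Cyc.poly, Matrix.sum_mulVec, Matrix.mulVec_sum,
        Matrix.smul_mulVec, Matrix.mulVec_smul, C.pow_vec, Finset.sum_apply, Pi.smul_apply,
        smul_eq_mul, add_zero] at h
      simp only [Cyc.vec, pos_posInv, Nat.zero_mod] at h
      rw [← h, sum6_fin]
      simp only [sum6_fin, Nat.cast_sum, Nat.cast_mul, hd, Finset.mul_sum]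
      refine Finset.sum_congr rfl fun i _ => Finset.sum_congr rfl fun j _ => ?_
      rw [add_comm j.val i.val]
      ring
    · apply hne
      apply (ZMod.natCast_eq_natCast_iff' _ _ 3).1
      have h := congrFun h2 (posInv ⟨r, hr⟩)
      simp only [Cyc.poly, Matrix.sum_mulVec, Matrix.smul_mulVec, C.pow_vec, Finset.sum_apply,
        Pi.smul_apply, smul_eq_mul, add_zero, Cyc.vec, pos_posInv] at h
      simp only [sum6_fin, Nat.cast_sum, Nat.cast_mul, hd]
      exact h
  · have hv : ∀ i : Fin 6, (c i).val = digit (code c) i.val := fun i => (digit_code c i).symm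
    have hd : ∀ i : Fin 6, c i = ((digit (code c) i.val : ℕ) : F3) := fun i => by
      rw [← hv, ZMod.natCast_zmod_val]
    rcases hb with hb | hb
    · left
      rw [hcz, Cyc.poly]
      simp [Fin.sum_univ_six, hd, hb, digit]
    · right
      rw [hcz, Cyc.poly]
      simp [Fin.sum_univ_six, hd, hb, digit]
      decide +kernel

theorem Cyc.pow_commute_eq (hchk : invCheck C.tab C.ord = true) {n : ℕ} {y : Sp}
    (hy : Commute C.el y) (hn : y ^ (2 * n) = 1) : (y ^ n).1 = 1 ∨ (y ^ n).1 = -1 :=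
  C.involution hchk (by rw [← pow_add, ← two_mul, hn]) (hy.pow_right n)

theorem Cyc.pow_27_inv (h : 27 % C.ord = C.ord - 1) {y : Sp} (hy : Commute C.el y) : y ^ 28 = 1 := by
  obtain ⟨c, hc⟩ := C.exists_poly (y := y.1) (congrArg Subtype.val hy.eq)
  have h27 : (y ^ 27).1 = (y⁻¹ : Sp).1 := by
    rw [C.inv_poly hc, SubmonoidClass.coe_pow, hc, C.poly_pow]
    refine Finset.sum_congr rfl fun i _ => ?_
    rw [← pow_mul, C.pow_mod, C.pow_mod (C.ord * 6 - i.val)]
    congr 2
    have h1 := i.2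
    have h2 := C.six_le
    show (27 * i.val) % C.ord = _
    have e : C.ord * 6 - i.val + i.val = C.ord * 6 := Nat.sub_add_cancel (by omega)
    have e2 : (27 * i.val + i.val) % C.ord = 0 := by
      rw [show 27 * i.val + i.val = (27 + 1) * i.val by ring, Nat.mul_mod, Nat.add_mod, h]
      rcases Nat.eq_or_lt_of_le (show 1 ≤ C.ord by omega) with h3 | h3
      · omega
      · rw [Nat.one_mod_eq_one.2 (by omega), Nat.sub_add_cancel (by omega), Nat.mod_self]
        simp
    have e3 : (C.ord * 6 - i.val + i.val) % C.ord = 0 := by rw [e]; simp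
    rw [← e3] at e2
    exact Nat.ModEq.add_right_cancel' _ e2
  rw [pow_succ, show y ^ 27 = y⁻¹ from Subtype.ext h27, inv_mul_cancel]

theorem Cyc.pow_27_self (h : 27 % C.ord = 1) {y : Sp} (hy : Commute C.el y) : y ^ 26 = 1 := by
  obtain ⟨c, hc⟩ := C.exists_poly (y := y.1) (congrArg Subtype.val hy.eq)
  have h27 : (y ^ 27).1 = y.1 := by
    rw [SubmonoidClass.coe_pow, hc, C.poly_pow, Cyc.poly]
    refine Finset.sum_congr rfl fun i _ => ?_
    rw [← pow_mul, C.pow_mod, Nat.mul_mod, h, one_mul, Nat.mod_mod, ← C.pow_mod]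
  have : y ^ 26 * y = 1 * y := by rw [← pow_succ, one_mul]; exact Subtype.ext h27
  exact mul_right_cancel this

/-- the element of order 7 -/
def c7 : Cyc where
  g := matOf g7D
  ki := kiOf g7KiD
  tab := g7TD
  ord := 7
  ord_pos := by norm_num
  mem := by rw [SymplecticGroup.mem_iff]; decide +kernel
  pow_ord := by decide +kernel
  tab_step := by decide +kernel
  inverse := by decide +kernel
  six_le := by norm_num

/-- the element of order 13 -/
def c13 : Cyc where
  g := matOf g13D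
  ki := kiOf g13KiD
  tab := g13TD
  ord := 13
  ord_pos := by norm_num
  mem := by rw [SymplecticGroup.mem_iff]; decide +kernel
  pow_ord := by decide +kernel
  tab_step := by decide +kernel
  inverse := by decide +kernel
  six_le := by norm_num

theorem check7 : invCheck g7TD 7 = true := by decide +kernel
theorem check13 : invCheck g13TD 13 = true := by decide +kernel

theorem order7 : orderOf c7.el = 7 :=
  orderOf_eq_prime (Subtype.ext (by rw [SubmonoidClass.coe_pow]; exact c7.pow_ord))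
    (fun h => absurd (congrArg Subtype.val h) (by decide +kernel))

theorem order13 : orderOf c13.el = 13 :=
  orderOf_eq_prime (Subtype.ext (by rw [SubmonoidClass.coe_pow]; exact c13.pow_ord))
    (fun h => absurd (congrArg Subtype.val h) (by decide +kernel))

theorem card_Sp : Nat.card Sp = 9170703360 := by
  rw [show Sp = ↥(Matrix.symplecticGroup (Fin 3) F3) from rfl,
    Symplectic.card_sp (q := 3) (by simp) 3]
  norm_num [Finset.prod_range_succ]

theorem commute_conj {p : ℕ} [Fact p.Prime] {G : Type*} [Group G] [Finite G]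
    (hp : (Nat.card G).factorization p = 1) {a b : G} (ha : orderOf a = p) (hb : orderOf b = p)
    {y : G} (hy : Commute a y) : ∃ h : G, Commute b (h * y * h⁻¹) := by
  let P : Sylow p G := Sylow.ofCard (Subgroup.zpowers a) (by rw [Nat.card_zpowers, ha, hp, pow_one])
  let Q : Sylow p G := Sylow.ofCard (Subgroup.zpowers b) (by rw [Nat.card_zpowers, hb, hp, pow_one])
  obtain ⟨h, hh⟩ := MulAction.exists_smul_eq G P Q
  have hb' : b ∈ ((h • P : Sylow p G) : Subgroup G) := by
    rw [hh]; exact Subgroup.mem_zpowers _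
  rw [Sylow.smul_def] at hb'
  obtain ⟨u, hu, hub⟩ := hb'
  obtain ⟨j, rfl⟩ := Subgroup.mem_zpowers_iff.1 (show u ∈ Subgroup.zpowers a from hu)
  refine ⟨h, ?_⟩
  have hub' : h * a ^ j * h⁻¹ = b := hub
  rw [← hub']
  exact Commute.map (hy.zpow_left j) (MulAut.conj h).toMonoidHom

end Cfsg.Agent.Lib.Sp63
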