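import Mathlib

/-! Elements of order 7 and 13 of `Sp₆(3)` with cyclic vectors. -/

set_option autoImplicit false

namespace Cfsg.Agent.Lib.Sp63

def g7D : List (List Nat) := [[0, 0, 2, 1, 2, 0], [1, 0, 2, 1, 0, 2], [0, 1, 0, 1, 2, 1], [0, 2, 1, 0, 2, 1], [1, 1, 2, 0, 2, 0], [1, 1, 0, 1, 1, 0]]

def g7KiD : List (List Nat) := [[0, 1, 0, 1, 1, 1], [2, 2, 2, 1, 1, 0], [1, 0, 2, 1, 2, 0], [1, 1, 1, 0, 0, 0], [0, 0, 2, 1, 1, 0], [0, 2, 1, 1, 1, 0]]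

def g7TD : List (List Nat) := [[0, 0, 0, 0, 0, 1], [0, 2, 1, 1, 0, 0], [0, 0, 0, 2, 1, 0], [1, 2, 1, 2, 2, 0], [2, 2, 2, 0, 0, 1], [1, 2, 0, 1, 2, 1], [2, 1, 2, 0, 1, 0]]

def g13D : List (List Nat) := [[0, 0, 1, 0, 0, 0], [1, 0, 1, 0, 0, 0], [0, 1, 0, 0, 0, 0], [0, 0, 0, 2, 0, 1], [0, 0, 0, 1, 0, 0], [0, 0, 0, 0, 1, 0]]

def g13KiD : List (List Nat) := [[2, 1, 1, 0, 1, 0], [1, 0, 2, 0, 1, 1], [2, 0, 2, 1, 0, 1], [0, 2, 0, 1, 2, 0], [1, 2, 1, 0, 0, 2], [2, 2, 0, 2, 0, 0]]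

def g13TD : List (List Nat) := [[0, 0, 1, 0, 0, 1], [1, 1, 0, 1, 0, 0], [0, 1, 1, 2, 1, 0], [1, 1, 1, 1, 2, 1], [1, 2, 1, 0, 1, 2], [1, 2, 2, 2, 0, 1], [2, 0, 2, 2, 2, 0], [2, 1, 0, 1, 2, 2], [0, 2, 1, 1, 1, 2], [1, 1, 2, 1, 1, 1], [2, 0, 1, 0, 1, 1], [1, 0, 0, 1, 0, 1], [0, 1, 0, 0, 1, 0]]

end Cfsg.Agent.Lib.Sp63
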