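import Cfsg.Agent.Lib.Sp63.Basic
import Cfsg.Agent.Lib.LinearOrders.SympOrders

/-! The prime graph of `PSp₆(3)`. -/

set_option autoImplicit false

namespace Cfsg.Agent.Lib.Sp63

open Matrix

abbrev Q : Type := Cfsg.PSp 3 F3

theorem card_Q : Nat.card Q = 4585351680 := by
  have h := Symplectic.card_psp (F := F3) (q := 3) (by simp) (m := 3) (by norm_num)
  norm_num [Finset.prod_range_succ] at h
  show Nat.card (Cfsg.PSp 3 F3) = _
  omega

theorem prime_dvd_Q {r : ℕ} (hr : r.Prime) :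
    r ∣ Nat.card Q ↔ r = 2 ∨ r = 3 ∨ r = 5 ∨ r = 7 ∨ r = 13 := by
  rw [card_Q]
  constructor
  · intro h
    rw [show 4585351680 = 2 ^ 9 * 3 ^ 9 * 5 * 7 * 13 by norm_num] at h
    rcases (Nat.Prime.dvd_mul hr).1 h with h | h
    · rcases (Nat.Prime.dvd_mul hr).1 h with h | h
      · rcases (Nat.Prime.dvd_mul hr).1 h with h | h
        · rcases (Nat.Prime.dvd_mul hr).1 h with h | h
          · exact Or.inl ((Nat.prime_dvd_prime_iff_eq hr (by norm_num)).1 (hr.dvd_of_dvd_pow h))
          · exact Or.inr (Or.inl ((Nat.prime_dvd_prime_iff_eq hr (by norm_num)).1 (hr.dvd_of_dvd_pow h)))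
        · exact Or.inr (Or.inr (Or.inl ((Nat.prime_dvd_prime_iff_eq hr (by norm_num)).1 h)))
      · exact Or.inr (Or.inr (Or.inr (Or.inl ((Nat.prime_dvd_prime_iff_eq hr (by norm_num)).1 h))))
    · exact Or.inr (Or.inr (Or.inr (Or.inr ((Nat.prime_dvd_prime_iff_eq hr (by norm_num)).1 h))))
  · rintro (rfl | rfl | rfl | rfl | rfl) <;> norm_num

theorem mk_eq_one_iff {a : Sp} : (QuotientGroup.mk a : Q) = 1 ↔ a.1 = 1 ∨ a.1 = -1 := by
  rw [QuotientGroup.eq_one_iff, Symplectic.mem_center_sp_iff]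

theorem sq_of_mk_eq_one {a : Sp} (h : (QuotientGroup.mk a : Q) = 1) : a ^ 2 = 1 := by
  apply Subtype.ext
  rw [SubmonoidClass.coe_pow]
  rcases mk_eq_one_iff.1 h with h | h <;> rw [h] <;> simp

/-- The engine: an element of order `p * r` with `p` in `{7, 13}`. -/
theorem pow_eq_one_of_order {C : Cyc} {p r n : ℕ} [Fact p.Prime] (hp2 : p ≠ 2)
    (hel : orderOf C.el = p) (hfac : (Nat.card Sp).factorization p = 1)
    (hn : ∀ y : Sp, Commute C.el y → (y ^ n).1 = 1 ∨ (y ^ n).1 = -1)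
    {x : Q} (hx : orderOf x = p * r) (hr : 0 < r) : x ^ n = 1 := by
  have hp := (Fact.out : p.Prime)
  obtain ⟨y, rfl⟩ := QuotientGroup.mk_surjective x
  set g := y ^ (2 * r) with hg
  have hgp : g ^ p = 1 := by
    rw [hg, ← pow_mul, show 2 * r * p = p * r * 2 by ring, pow_mul]
    apply sq_of_mk_eq_one
    rw [QuotientGroup.mk_pow, ← hx, pow_orderOf_eq_one]
  have hg1 : g ≠ 1 := by
    intro h
    have h2 : (QuotientGroup.mk y : Q) ^ (2 * r) = 1 := by
      rw [← QuotientGroup.mk_pow, ← hg, h]; rfl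
    have := Nat.le_of_dvd (by omega) (hx ▸ orderOf_dvd_of_pow_eq_one h2)
    have hp3 : 3 ≤ p := by
      have := hp.two_le; omega
    nlinarith
  have hord : orderOf g = p := orderOf_eq_prime hgp hg1
  obtain ⟨h, hh⟩ := commute_conj hfac hord hel (Commute.pow_left (Commute.refl y) (2 * r))
  rw [← QuotientGroup.mk_pow, QuotientGroup.eq_one_iff]
  have hc : (h * y * h⁻¹) ^ n ∈ Subgroup.center Sp := Symplectic.mem_center_sp_iff.2 (hn _ hh)
  rw [conj_pow] at hc
  have := Subgroup.Normal.conj_mem inferInstance _ hc h⁻¹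
  simpa [mul_assoc] using this

theorem fac_Sp {p a : ℕ} (hp : p.Prime) (h1 : p * a = 9170703360) (h2 : ¬ p ∣ a) :
    (Nat.card Sp).factorization p = 1 := by
  rw [card_Sp, ← h1, Nat.factorization_mul hp.ne_zero (by rintro rfl; simp at h2),
    Finsupp.add_apply, hp.factorization_self, Nat.factorization_eq_zero_of_not_dvd h2]

theorem not_order_seven {r : ℕ} (hr : r.Prime) (h2 : r ≠ 2) (h7 : r ≠ 7) :
    ¬ ∃ x : Q, orderOf x = 7 * r := by
  rintro ⟨x, hx⟩
  have h := pow_eq_one_of_order (C := c7) (p := 7) (r := r) (n := 14) (by norm_num) order7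
    (fac_Sp (a := 1310100480) (by norm_num) (by norm_num) (by norm_num))
    (fun y hy => Cyc.pow_commute_eq c7 check7 hy (Cyc.pow_27_inv c7 (by rfl) hy)) hx hr.pos
  have hd : 7 * r ∣ 7 * 2 := hx ▸ orderOf_dvd_of_pow_eq_one h
  exact h2 ((Nat.prime_dvd_prime_iff_eq hr Nat.prime_two).1 (Nat.dvd_of_mul_dvd_mul_left (by norm_num) hd))

theorem not_order_thirteen {r : ℕ} (hr : r.Prime) : ¬ ∃ x : Q, orderOf x = 13 * r := by
  rintro ⟨x, hx⟩
  have h := pow_eq_one_of_order (C := c13) (p := 13) (r := r) (n := 13) (by norm_num) order13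
    (fac_Sp (a := 705438720) (by norm_num) (by norm_num) (by norm_num))
    (fun y hy => Cyc.pow_commute_eq c13 check13 hy (Cyc.pow_27_self c13 (by rfl) hy)) hx hr.pos
  have hd : 13 * r ∣ 13 * 1 := hx ▸ orderOf_dvd_of_pow_eq_one h
  exact hr.ne_one (Nat.dvd_one.1 (Nat.dvd_of_mul_dvd_mul_left (by norm_num) hd))

theorem exists_order_thirty : ∃ x : Q, orderOf x = 30 := by
  have h := (LinearOrders.mixed_mem (F := F3) (by decide) 3 (n := 3) (d := 2) (by norm_num) (by norm_num)).1
  rw [show Nat.lcm (Fintype.card F3 ^ 2 + 1) (LinearOrders.unipExp 3 (2 * (3 - 2))) = 30 by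
    rw [ZMod.card]; norm_num [LinearOrders.unipExp, Nat.clog]] at h
  exact h

theorem exists_order_fourteen : ∃ x : Q, orderOf x = 14 := by
  have h := LinearOrders.splus_mem (F := F3) (by decide) (by rw [ZMod.card]; decide) 3 (n := 3) (by norm_num)
  rw [show (Fintype.card F3 ^ 3 + 1) / 2 = 14 by rw [ZMod.card]; rfl] at h
  exact h

theorem exists_order_of_dvd {m n : ℕ} (hn : 0 < n) (hd : m ∣ n) (h : ∃ x : Q, orderOf x = n) :
    ∃ x : Q, orderOf x = m := by
  obtain ⟨x, hx⟩ := h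
  exact ⟨x ^ (orderOf x / m), orderOf_pow_orderOf_div (by omega) (hx ▸ hd)⟩

/-- the graph of `PSp₆(3)` -/
theorem edge_iff {r s : ℕ} (hr : r.Prime) (hs : s.Prime) (hrs : r ≠ s) :
    (∃ x : Q, orderOf x = r * s) ↔ r * s = 6 ∨ r * s = 10 ∨ r * s = 14 ∨ r * s = 15 := by
  constructor
  · rintro ⟨x, hx⟩
    have hr' := (prime_dvd_Q hr).1 ((Dvd.intro s hx.symm).trans (orderOf_dvd_natCard x))
    have hs' := (prime_dvd_Q hs).1 ((Dvd.intro_left r hx.symm).trans (orderOf_dvd_natCard x))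
    have h1 := fun (t : ℕ) (ht : t.Prime) (a : t ≠ 2) (b : t ≠ 7) (e : r * s = 7 * t) =>
      not_order_seven ht a b ⟨x, hx.trans e⟩
    have h2 := fun (t : ℕ) (ht : t.Prime) (e : r * s = 13 * t) =>
      not_order_thirteen ht ⟨x, hx.trans e⟩
    rcases hr' with rfl | rfl | rfl | rfl | rfl <;> rcases hs' with rfl | rfl | rfl | rfl | rfl
    all_goals first
      | exact absurd rfl hrs
      | (norm_num; done)
      | (refine (h1 3 Nat.prime_three (by decide) (by decide) ?_).elim; norm_num; done)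
      | (refine (h1 5 Nat.prime_five (by decide) (by decide) ?_).elim; norm_num; done)
      | (refine (h2 2 Nat.prime_two ?_).elim; norm_num; done)
      | (refine (h2 3 Nat.prime_three ?_).elim; norm_num; done)
      | (refine (h2 5 Nat.prime_five ?_).elim; norm_num; done)
      | (refine (h2 7 (by decide) ?_).elim; norm_num; done)
  · rintro (h | h | h | h) <;> rw [h]
    · exact exists_order_of_dvd (by norm_num) (by norm_num) exists_order_thirty
    · exact exists_order_of_dvd (by norm_num) (by norm_num) exists_order_thirty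
    · exact exists_order_fourteen
    · exact exists_order_of_dvd (by norm_num) (by norm_num) exists_order_thirty

end Cfsg.Agent.Lib.Sp63
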